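import Mathlib.RingTheory.PicardGroup
import Mathlib.LinearAlgebra.TensorPower.Basic
import Mathlib.LinearAlgebra.Matrix.Determinant.Basic
import Mathlib.LinearAlgebra.Matrix.GeneralLinearGroup.Defs
import Mathlib.RingTheory.DedekindDomain.Ideal.Lemmas

/-! Powers of invertible modules. -/

namespace Groth.Agent.DivAlg26

open scoped TensorProduct
open CommRing Module

universe u v w

variable {R : Type u} [CommRing R] {N : Type v} [AddCommGroup N] [Module R N]

theorem smul_swap [Module.Invertible R N] (φ : N →ₗ[R] R) (x y : N) : φ x • y = φ y • x := by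
  have h := congrArg (fun z => TensorProduct.lid R N (LinearMap.rTensor N φ z))
    (Module.Invertible.tmul_comm (R := R) (m₁ := x) (m₂ := y))
  simpa using h

theorem exists_pairing [Module.Invertible R N] (m : Ideal R) (hm : m.IsMaximal) :
    ∃ (φ : N →ₗ[R] R) (x : N), φ x ∉ m := by
  by_contra h
  push Not at h
  have hall : ∀ z : Dual R N ⊗[R] N, contractLeft R N z ∈ m := by
    intro z
    induction z using TensorProduct.induction_on with
    | zero => simp
    | tmul φ x => exact h φ x
    | add a b ha hb => rw [map_add]; exact m.add_mem ha hb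
  obtain ⟨z, hz⟩ := (Module.Invertible.bijective (R := R) (M := N)).2 1
  exact hm.ne_top ((Ideal.eq_top_iff_one m).2 (hz ▸ hall z))

variable (R N) in
theorem invertible_tensorPower [Module.Invertible R N] :
    ∀ n : ℕ, ∃ _ : Module.Invertible R (⨂[R]^n N), Pic.mk R (⨂[R]^n N) = Pic.mk R N ^ n
  | 0 => by
    let e : R ≃ₗ[R] ⨂[R]^0 N := TensorPower.algebraMap₀
    haveI := Module.Invertible.congr e
    exact ⟨inferInstance, by rw [pow_zero, Pic.mk_eq_one_iff]; exact ⟨e.symm⟩⟩
  | n + 1 => by
    obtain ⟨_, hn⟩ := invertible_tensorPower n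
    let e₁ : ⨂[R]^1 N ≃ₗ[R] N := PiTensorProduct.subsingletonEquiv (0 : Fin 1)
    let e : ⨂[R]^n N ⊗[R] N ≃ₗ[R] ⨂[R]^(n + 1) N :=
      (TensorProduct.congr (LinearEquiv.refl R _) e₁.symm).trans TensorPower.mulEquiv
    haveI := Module.Invertible.congr e
    refine ⟨inferInstance, ?_⟩
    rw [pow_succ, ← hn, ← Pic.mk_tensor]
    exact Pic.mk_eq_mk_iff.2 ⟨e.symm⟩

theorem mk_pow_eq_one [Module.Invertible R N] (n : ℕ) (e : (Fin n → N) ≃ₗ[R] (Fin n → R)) :
    Pic.mk R N ^ n = 1 := by
  classical
  obtain ⟨_, hn⟩ := invertible_tensorPower R N n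
  let d : MultilinearMap R (fun _ : Fin n => N) R :=
    (Matrix.detRowAlternating : (Fin n → R) [⋀^Fin n]→ₗ[R] R).toMultilinearMap.compLinearMap
      fun j => e.toLinearMap.comp (LinearMap.single R (fun _ => N) j)
  let D : ⨂[R]^n N →ₗ[R] R := PiTensorProduct.lift d
  have hsurj : Function.Surjective D := by
    rw [← LinearMap.range_eq_top]
    by_contra hne
    obtain ⟨m, hm, hle⟩ := Ideal.exists_le_maximal _ hne
    obtain ⟨φ, x, hx⟩ := exists_pairing (N := N) m hm
    obtain ⟨a, m', hm', ha⟩ := hm.exists_inv hx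
    let M : Matrix (Fin n) (Fin n) R := Matrix.of fun j => e (Pi.single j x)
    have hdet : M.det ∈ m := hle ⟨PiTensorProduct.tprod R fun _ => x, by
      simp [D, d, M, PiTensorProduct.lift.tprod]; rfl⟩
    let π := Ideal.Quotient.mk m
    let C : Matrix (Fin n) (Fin n) R :=
      Matrix.of fun i j => a * φ ((e.symm (Pi.single i 1)) j)
    have hCM : (C * M).map π = 1 := by
      ext i k
      have hπ : π m' = 0 := Ideal.Quotient.eq_zero_iff_mem.2 hm'
      let y := e.symm (Pi.single i 1)
      have hy : (fun j => C i j • x) + m' • y = y := by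
        funext j
        simp only [C, Matrix.of_apply, Pi.add_apply, Pi.smul_apply, y]
        rw [mul_smul, ← smul_swap φ x, smul_smul, ← add_smul, ha, one_smul]
      have h1 : (C * M) i k + m' * e y k = e y k := by
        conv_rhs => rw [← hy]
        rw [map_add, map_smul, Pi.add_apply, Pi.smul_apply, smul_eq_mul]
        congr 1
        rw [Matrix.mul_apply, show (fun j => C i j • x) = ∑ j, C i j • Pi.single j x by
          funext j; simp [Finset.sum_apply, Pi.single_apply], map_sum, Finset.sum_apply]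
        simp [M]
      rw [show e y = Pi.single i 1 from e.apply_symm_apply _] at h1
      have := congrArg π h1
      rw [map_add, map_mul, hπ, zero_mul, add_zero] at this
      rw [Matrix.map_apply, this, Matrix.one_apply, Pi.single_apply]
      by_cases hik : i = k
      · subst hik; simp
      · simp [hik, Ne.symm hik]
    have := congrArg Matrix.det hCM
    rw [← RingHom.mapMatrix_apply, ← RingHom.map_det, Matrix.det_mul, Matrix.det_one, map_mul,
      Ideal.Quotient.eq_zero_iff_mem.2 hdet, mul_zero] at this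
    exact hm.ne_top ((Ideal.eq_top_iff_one m).2 (Ideal.Quotient.eq_zero_iff_mem.1 (by simpa using this.symm)))
  rw [← hn, Pic.mk_eq_one_iff]
  exact ⟨LinearEquiv.ofBijective D (Module.Invertible.bijective_of_surjective hsurj)⟩

/-- Splitting off a free rank one summand. -/
theorem prod_equiv {M : Type w} [AddCommGroup M] [Module R M] [Module.Invertible R M]
    [Module.Invertible R N] (φ : M →ₗ[R] R) (ψ : N →ₗ[R] R) (p : M) (q : N)
    (h : φ p + ψ q = 1) : Nonempty ((M × N) ≃ₗ[R] R × (M ⊗[R] N)) := by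
  let g : M × N →ₗ[R] M ⊗[R] N :=
    ((TensorProduct.mk R M N).flip q).comp (LinearMap.fst R M N) -
      (TensorProduct.mk R M N p).comp (LinearMap.snd R M N)
  let k : M ⊗[R] N →ₗ[R] M × N :=
    (((TensorProduct.rid R M).toLinearMap ∘ₗ LinearMap.lTensor M ψ)).prod
      (-((TensorProduct.lid R N).toLinearMap ∘ₗ LinearMap.rTensor N φ))
  have hk : ∀ m n, k (m ⊗ₜ[R] n) = (ψ n • m, -(φ m • n)) := fun m n => by simp [k]
  have hg : ∀ m n, g (m, n) = m ⊗ₜ[R] q - p ⊗ₜ[R] n := fun m n => by simp [g]
  have hgk : ∀ z, g (k z) = z := by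
    intro z
    induction z using TensorProduct.induction_on with
    | zero => simp
    | add a b ha hb => rw [map_add, map_add, ha, hb]
    | tmul m n =>
      rw [hk, hg, TensorProduct.tmul_neg, sub_neg_eq_add, TensorProduct.smul_tmul,
        ← smul_swap ψ q n, TensorProduct.tmul_smul, TensorProduct.tmul_smul (r := φ m),
        TensorProduct.smul_tmul' (φ m), ← smul_swap φ p m, ← TensorProduct.smul_tmul', ← add_smul,
        add_comm, h, one_smul]
  refine ⟨LinearEquiv.ofLinear ((φ.coprod ψ).prod g)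
    (((LinearMap.toSpanSingleton R (M × N) (p, q)).coprod k)) ?_ ?_⟩
  · refine LinearMap.ext fun ⟨r, z⟩ => ?_
    have h1 : φ (k z).1 + ψ (k z).2 = 0 := by
      induction z using TensorProduct.induction_on with
      | zero => simp
      | tmul m n => simp [hk]; ring
      | add a b ha hb =>
        rw [map_add, Prod.fst_add, Prod.snd_add, map_add, map_add]
        linear_combination ha + hb
    refine Prod.ext ?_ ?_
    · simp only [LinearMap.comp_apply, LinearMap.prod_apply, Function.prod_apply, LinearMap.coprod_apply,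
        LinearMap.id_apply, LinearMap.toSpanSingleton_apply, Prod.fst_add, Prod.snd_add, map_add,
        Prod.smul_fst, Prod.smul_snd, map_smul, smul_eq_mul]
      linear_combination r * h + h1
    · simp only [LinearMap.comp_apply, LinearMap.prod_apply, Function.prod_apply, LinearMap.coprod_apply,
        LinearMap.id_apply, LinearMap.toSpanSingleton_apply, map_add, map_smul, hgk, hg, sub_self,
        smul_zero, zero_add]
      simp
  · refine LinearMap.ext fun ⟨m, n⟩ => ?_
    simp only [LinearMap.comp_apply, LinearMap.prod_apply, Function.prod_apply, LinearMap.coprod_apply,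
      LinearMap.id_apply, LinearMap.toSpanSingleton_apply, hg, map_sub, hk]
    refine Prod.ext ?_ ?_
    · simp only [Prod.fst_add, Prod.smul_fst, Prod.fst_sub, add_smul]
      calc φ m • p + ψ n • p + (ψ q • m - ψ n • p) = φ m • p + ψ q • m := by abel
        _ = m := by rw [← smul_swap φ p m, ← add_smul, h, one_smul]
    · simp only [Prod.snd_add, Prod.smul_snd, Prod.snd_sub, add_smul]
      calc φ m • q + ψ n • q + (-(φ m • q) - -(φ p • n)) = ψ n • q + φ p • n := by abel
        _ = n := by rw [← smul_swap ψ q n, ← add_smul, add_comm, h, one_smul]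

theorem exists_pairing_pair [IsDedekindDomain R] (M : Type w) [AddCommGroup M] [Module R M]
    [Module.Invertible R M] (N : Type v) [AddCommGroup N] [Module R N] [Module.Invertible R N] :
    ∃ (φ : M →ₗ[R] R) (ψ : N →ₗ[R] R) (p : M) (q : N), φ p + ψ q = 1 := by
  classical
  obtain ⟨m₀, hm₀⟩ := Ideal.exists_maximal R
  obtain ⟨φ, x₀, hx₀⟩ := exists_pairing (N := M) m₀ hm₀
  let I : Ideal R := LinearMap.range φ
  have hI : I ≠ ⊥ := fun h => hx₀ (by
    have : φ x₀ ∈ I := ⟨x₀, rfl⟩
    rw [h, Submodule.mem_bot] at this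
    rw [this]; exact zero_mem _)
  let T : Set (Ideal R) := {P | P.IsMaximal ∧ I ≤ P}
  have hT : T.Finite := by
    have : Finite {P : Ideal R // P ∣ I} :=
      @Finite.of_fintype _ (UniqueFactorizationMonoid.fintypeSubtypeDvd I hI)
    refine Set.Finite.subset (Set.finite_range fun P : {P : Ideal R // P ∣ I} => P.1) fun P hP => ?_
    exact ⟨⟨P, Ideal.dvd_iff_le.2 hP.2⟩, rfl⟩
  haveI := hT.fintype
  choose ψs ys hys using fun P : T => exists_pairing (R := R) (N := N) P.1 P.2.1
  have hcop : ∀ P : T, ∃ c : R, c ∉ P.1 ∧ ∀ Q : T, Q ≠ P → c ∈ Q.1 := by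
    intro P
    haveI := P.2.1
    have hnle : ¬ (Finset.univ.erase P).inf (fun Q : T => Q.1) ≤ P.1 := by
      intro hle
      obtain ⟨Q, hQ, hQP⟩ := (P.2.1.isPrime.inf_le' (s := Finset.univ.erase P)
        (f := fun Q : T => Q.1)).1 hle
      exact (Finset.mem_erase.1 hQ).1
        (Subtype.ext (Q.2.1.eq_of_le P.2.1.ne_top hQP))
    obtain ⟨c, hc, hcP⟩ := SetLike.not_le_iff_exists.1 hnle
    exact ⟨c, hcP, fun Q hQ => (Finset.inf_le (by simp [hQ]) : _ ≤ Q.1) hc⟩
  choose c hcP hcQ using hcop
  let ψ : N →ₗ[R] R := ∑ P, c P • ψs P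
  have htop : I ⊔ LinearMap.range ψ = ⊤ := by
    by_contra hne
    obtain ⟨P, hP, hle⟩ := Ideal.exists_le_maximal _ hne
    let P' : T := ⟨P, hP, le_sup_left.trans hle⟩
    have h1 : ψ (ys P') ∈ P := hle (Submodule.mem_sup_right ⟨_, rfl⟩)
    simp only [ψ, LinearMap.sum_apply, LinearMap.smul_apply, smul_eq_mul] at h1
    rw [← Finset.add_sum_erase _ _ (Finset.mem_univ P')] at h1
    rw [Ideal.add_mem_iff_left] at h1
    · exact (hP.isPrime.mem_or_mem h1).elim (hcP P') (hys P')
    · exact Ideal.sum_mem _ fun Q hQ => Ideal.mul_mem_right _ _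
        (hcQ Q P' (Ne.symm (Finset.mem_erase.1 hQ).1))
  obtain ⟨_, ⟨p, rfl⟩, _, ⟨q, rfl⟩, hpq⟩ := Submodule.mem_sup.1
    (show (1 : R) ∈ I ⊔ LinearMap.range ψ by rw [htop]; trivial)
  exact ⟨φ, ψ, p, q, hpq⟩

theorem exists_pi_equiv_prod [IsDedekindDomain R] [Module.Invertible R N] :
    ∀ k : ℕ, ∃ (P : Type u) (_ : AddCommGroup P) (_ : Module R P) (_ : Module.Invertible R P),
      Pic.mk R P = Pic.mk R N ^ (k + 1) ∧ Nonempty ((Fin (k + 1) → N) ≃ₗ[R] (Fin k → R) × P)
  | 0 => by
    let P : Pic R := Pic.mk R N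
    refine ⟨P, inferInstance, inferInstance, inferInstance, by rw [pow_one, Pic.mk_eq_self], ⟨?_⟩⟩
    exact ((LinearEquiv.funUnique (Fin 1) R N).trans (Pic.mk.linearEquiv R N).symm).trans
      (LinearEquiv.uniqueProd (R := R) (M := P) (M₂ := Fin 0 → R)).symm
  | k + 1 => by
    obtain ⟨P, _, _, _, hP, ⟨e⟩⟩ := exists_pi_equiv_prod k
    obtain ⟨φ, ψ, p, q, hpq⟩ := exists_pairing_pair (R := R) P N
    obtain ⟨e₂⟩ := prod_equiv φ ψ p q hpq
    let P' : Pic R := Pic.mk R (P ⊗[R] N)
    refine ⟨P', inferInstance, inferInstance, inferInstance,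
      by rw [Pic.mk_eq_self, pow_succ, ← hP, ← Pic.mk_tensor], ⟨?_⟩⟩
    exact (((((Fin.consLinearEquiv R fun _ : Fin (k + 2) => N).symm.trans
      (LinearEquiv.prodComm R _ _)).trans (e.prodCongr (LinearEquiv.refl R N))).trans
      (LinearEquiv.prodAssoc R _ _ _)).trans
      ((LinearEquiv.refl R _).prodCongr e₂)).trans <|
      ((LinearEquiv.prodAssoc R _ _ _).symm.trans
        (((LinearEquiv.prodComm R _ _).trans (Fin.consLinearEquiv R fun _ : Fin (k + 1) => R)).prodCongr
          (Pic.mk.linearEquiv R (P ⊗[R] N)).symm))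

theorem pi_equiv_of_pow [IsDedekindDomain R] [Module.Invertible R N] (n : ℕ)
    (h : Pic.mk R N ^ n = 1) : Nonempty ((Fin n → N) ≃ₗ[R] (Fin n → R)) := by
  cases n with
  | zero => exact ⟨LinearEquiv.ofSubsingleton _ _⟩
  | succ k =>
    obtain ⟨P, _, _, _, hP, ⟨e⟩⟩ := exists_pi_equiv_prod (R := R) (N := N) k
    obtain ⟨e₁⟩ := Pic.mk_eq_one_iff.1 (hP.trans h)
    exact ⟨(e.trans ((LinearEquiv.refl R _).prodCongr e₁)).trans
      ((LinearEquiv.prodComm R _ _).trans (Fin.consLinearEquiv R fun _ : Fin (k + 1) => R))⟩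

section Inner

theorem inner_imp_free [Module.Invertible R N] {n : ℕ} (hn : 1 ≤ n)
    (hall : ∀ φ : Matrix (Fin n) (Fin n) R ≃ₐ[R] Matrix (Fin n) (Fin n) R,
      ∃ P : GL (Fin n) R, ∀ A : Matrix (Fin n) (Fin n) R, φ A = P.1 * A * (P⁻¹).1)
    (h : (Fin n → N) ≃ₗ[R] (Fin n → R)) : Module.Free R N := by
  classical
  let toE : R ≃ₐ[R] Module.End R N :=
    AlgEquiv.ofBijective (Algebra.ofId R (Module.End R N))
      (by exact Module.Invertible.toModuleEnd_bijective R N)
  let ev : Matrix (Fin n) (Fin n) R ≃ₐ[R] Module.End R (Fin n → N) :=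
    toE.mapMatrix.trans (endVecAlgEquivMatrixEnd (Fin n) R R N).symm
  have hev : ∀ A v i, ev A v i = ∑ j, A i j • v j := by
    intro A v i
    simp [ev, toE, endVecAlgEquivMatrixEnd, endVecRingEquivMatrixEnd, Algebra.ofId_apply,
      Module.algebraMap_end_apply]
  let ψ : Matrix (Fin n) (Fin n) R ≃ₐ[R] Matrix (Fin n) (Fin n) R :=
    (ev.trans (h.conjAlgEquiv R)).trans LinearMap.toMatrixAlgEquiv'
  have hψ : ∀ A v, (ψ A).mulVec v = h (ev A (h.symm v)) := by
    intro A v
    rw [show ψ A = LinearMap.toMatrixAlgEquiv' (h.conjAlgEquiv R (ev A)) from rfl,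
      ← Matrix.toLinAlgEquiv'_apply, Matrix.toLinAlgEquiv'_toMatrixAlgEquiv']
    rfl
  obtain ⟨P, hP⟩ := hall ψ
  let g : (Fin n → N) → (Fin n → R) := fun v => (P⁻¹).1.mulVec (h v)
  have hg : ∀ A v, g (ev A v) = A.mulVec (g v) := by
    intro A v
    have h1 : h (ev A v) = (ψ A).mulVec (h v) := by rw [hψ, h.symm_apply_apply]
    simp only [g]
    rw [h1, hP, Matrix.mulVec_mulVec, Matrix.mulVec_mulVec, ← mul_assoc, ← mul_assoc]
    simp
  let o : Fin n := ⟨0, hn⟩
  let G : (Fin n → N) ≃ₗ[R] (Fin n → R) :=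
    h.trans (Matrix.toLin'OfInv (M := P.1) (M' := (P⁻¹).1) (by simp) (by simp))
  have hG : ∀ v, G v = g v := fun v => by simp [G, g, Matrix.toLin'OfInv]
  have hfix : ∀ (v : Fin n → R), (Matrix.single o o (1 : R)).mulVec v = Pi.single o (v o) := by
    intro v; funext i
    by_cases hi : i = o
    · subst hi; simp [Matrix.mulVec, dotProduct, Matrix.single_apply]
    · simp [Matrix.mulVec, dotProduct, Matrix.single_apply, hi, Ne.symm hi]
  have hfixN : ∀ (v : Fin n → N), ev (Matrix.single o o (1 : R)) v = Pi.single o (v o) := by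
    intro v; funext i
    rw [hev]
    by_cases hi : i = o
    · subst hi; simp [Matrix.single_apply]
    · simp [Matrix.single_apply, hi, Ne.symm hi]
  let f : N →ₗ[R] R :=
    (LinearMap.proj o).comp (G.toLinearMap.comp (LinearMap.single R (fun _ => N) o))
  have hf : ∀ x, Pi.single o (f x) = G (Pi.single o x) := fun x => by
    have h1 := hg (Matrix.single o o 1) (Pi.single o x)
    rw [hfix, hfixN, ← hG, Pi.single_eq_same] at h1
    have hfx : f x = g (Pi.single o x) o := congrFun (hG (Pi.single o x)) o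
    rw [hfx]
    exact h1.symm
  have hbij : Function.Bijective f := by
    refine ⟨fun x y hxy => ?_, fun r => ?_⟩
    · exact Pi.single_injective o (G.injective (by rw [← hf, ← hf, hxy]))
    · obtain ⟨v, hv⟩ := G.surjective (Pi.single o r)
      refine ⟨v o, ?_⟩
      suffices h2 : (Pi.single o (f (v o)) : Fin n → R) = Pi.single o r by
        simpa using congrFun h2 o
      have h1 := hg (Matrix.single o o 1) v
      rw [hfix, hfixN, ← hG, ← hG, hv, Pi.single_eq_same] at h1
      rw [hf, h1]
  exact Module.Free.of_equiv (LinearEquiv.ofBijective f hbij).symm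

theorem free_imp_inner {n : ℕ} (hn : 1 ≤ n)
    (hfree : ∀ (N : Type u) [AddCommGroup N] [Module R N] [Module.Invertible R N],
      Nonempty ((Fin n → N) ≃ₗ[R] (Fin n → R)) → Module.Free R N)
    (φ : Matrix (Fin n) (Fin n) R ≃ₐ[R] Matrix (Fin n) (Fin n) R) :
    ∃ P : GL (Fin n) R, ∀ A : Matrix (Fin n) (Fin n) R, φ A = P.1 * A * (P⁻¹).1 := by
  classical
  let o : Fin n := ⟨0, hn⟩
  let E : Fin n → Fin n → Matrix (Fin n) (Fin n) R := fun i j => φ (Matrix.single i j 1)
  have hE : ∀ i j k l, E i j * E k l = if j = k then E i l else 0 := by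
    intro i j k l
    simp only [E, ← map_mul]
    split_ifs with h
    · subst h; simp
    · simp [Matrix.single_mul_single_of_ne _ _ _ _ h]
  have hE1 : ∑ i, E i i = 1 := by simp [E, ← map_sum, Matrix.sum_single_one]
  let F := E o o
  have hFF : F * F = F := by simp [F, hE]
  have hFX : ∀ X, ∃ c : R, F * X * F = c • F := by
    intro X
    obtain ⟨Y, rfl⟩ := φ.surjective X
    refine ⟨Y o o, ?_⟩
    simp only [F, E, ← map_mul, Matrix.single_mul_mul_single, one_mul, mul_one, ← map_smul,
      Matrix.smul_single, smul_eq_mul]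
  let N : Submodule R (Fin n → R) := LinearMap.range (Matrix.toLin' F)
  let N' : Submodule R (Fin n → R) := LinearMap.range (Matrix.toLin' F.transpose)
  have hmem : ∀ v ∈ N, F.mulVec v = v := by
    rintro _ ⟨z, rfl⟩
    simp [Matrix.toLin'_apply, Matrix.mulVec_mulVec, hFF]
  have hmem' : ∀ v ∈ N', Matrix.vecMul v F = v := by
    rintro _ ⟨z, rfl⟩
    simp [Matrix.toLin'_apply, Matrix.mulVec_transpose, Matrix.vecMul_vecMul, hFF]
  have houter : ∀ (x : N) (y : N'), ∃ μ : R, Matrix.vecMulVec (x : Fin n → R) (y : Fin n → R) = μ • F := by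
    intro x y
    obtain ⟨μ, hμ⟩ := hFX (Matrix.vecMulVec (x : Fin n → R) (y : Fin n → R))
    refine ⟨μ, ?_⟩
    rw [← hμ, Matrix.mul_vecMulVec, Matrix.vecMulVec_mul, hmem _ x.2, hmem' _ y.2]
  let pair : N' ⊗[R] N →ₗ[R] R :=
    TensorProduct.lift (LinearMap.mk₂ R (fun (y : N') (x : N) => (y : Fin n → R) ⬝ᵥ (x : Fin n → R))
      (fun a b c => by simp [add_dotProduct]) (fun r a c => by simp [smul_dotProduct])
      (fun a b c => by simp [dotProduct_add]) (fun r a c => by simp [dotProduct_smul]))
  have hpair : ∀ y x, pair (y ⊗ₜ[R] x) = (y : Fin n → R) ⬝ᵥ (x : Fin n → R) := fun y x => by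
    simp [pair]
  have hswap : ∀ (y y' : N') (x x' : N), pair (y' ⊗ₜ[R] x') • (y ⊗ₜ[R] x) =
      pair (y ⊗ₜ[R] x) • (y' ⊗ₜ[R] x') := by
    intro y y' x x'
    obtain ⟨μ, hμ⟩ := houter x' y
    have h1 : pair (y ⊗ₜ[R] x) • x' = μ • x := by
      apply Subtype.ext
      have := congrArg (fun M => Matrix.mulVec M (x : Fin n → R)) hμ
      simp only [Matrix.smul_mulVec, hmem _ x.2, Matrix.vecMulVec_mulVec] at this
      rw [SetLike.val_smul, SetLike.val_smul, hpair, ← this]
      ext i
      simp [mul_comm]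
    have h2 : pair (y' ⊗ₜ[R] x') • y = μ • y' := by
      apply Subtype.ext
      have := congrArg (fun M => Matrix.vecMul (y' : Fin n → R) M) hμ
      simp only [Matrix.vecMul_smul, hmem' _ y'.2, Matrix.vecMul_vecMulVec] at this
      rw [SetLike.val_smul, SetLike.val_smul, hpair, ← this]
    rw [TensorProduct.smul_tmul', h2, TensorProduct.smul_tmul, ← h1, TensorProduct.tmul_smul]
  obtain ⟨u, hu⟩ : ∃ u, pair u = 1 := by
    suffices h : LinearMap.range pair = ⊤ by
      exact (show (1 : R) ∈ LinearMap.range pair by rw [h]; trivial)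
    by_contra hne
    obtain ⟨m, hm, hle⟩ := Ideal.exists_le_maximal _ hne
    let π := Ideal.Quotient.mk m
    have hF0 : F.map π = 0 := by
      ext a b
      rw [Matrix.map_apply, Matrix.zero_apply, Ideal.Quotient.eq_zero_iff_mem]
      refine hle ⟨(⟨Matrix.toLin' F.transpose (Pi.single a 1), ⟨_, rfl⟩⟩ : N') ⊗ₜ[R]
        (⟨Matrix.toLin' F (Pi.single b 1), ⟨_, rfl⟩⟩ : N), ?_⟩
      rw [hpair]
      change Matrix.toLin' F.transpose (Pi.single a 1) ⬝ᵥ Matrix.toLin' F (Pi.single b 1) = F a b
      rw [Matrix.toLin'_apply, Matrix.toLin'_apply, Matrix.mulVec_transpose, Matrix.dotProduct_mulVec,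
        Matrix.vecMul_vecMul, hFF, ← Matrix.dotProduct_mulVec]
      simp
    have h1 : (1 : Matrix (Fin n) (Fin n) (R ⧸ m)) = 0 := by
      calc (1 : Matrix (Fin n) (Fin n) (R ⧸ m)) = π.mapMatrix (∑ i, E i o * F * E o i) := by
            simp [F, hE, hE1]
        _ = 0 := by simp [RingHom.mapMatrix_apply, hF0]
    have h2 := congrFun (congrFun h1 o) o
    simp only [Matrix.one_apply_eq, Matrix.zero_apply] at h2
    haveI := Ideal.Quotient.nontrivial_iff.2 hm.ne_top
    exact one_ne_zero h2
  have hinv : ∀ w, pair w • u = w := by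
    intro w
    suffices h : ∀ w' w, pair w' • w = pair w • w' by rw [← h u w, hu, one_smul]
    intro w' w
    induction w' using TensorProduct.induction_on with
    | zero => simp
    | add a b ha hb => rw [map_add, add_smul, ha, hb, smul_add]
    | tmul y' x' =>
      induction w using TensorProduct.induction_on with
      | zero => simp
      | add a b ha hb => rw [map_add, add_smul, ← ha, ← hb, smul_add]
      | tmul y x => exact hswap y y' x x'
  let epair : N' ⊗[R] N ≃ₗ[R] R := LinearEquiv.ofBijective pair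
    ⟨fun a b hab => by rw [← hinv a, ← hinv b, hab], fun r => ⟨r • u, by simp [hu]⟩⟩
  haveI : Module.Invertible R N := Module.Invertible.right epair
  have hEmem : ∀ j v, (E o j).mulVec v ∈ N := fun j v => ⟨(E o j).mulVec v, by
    rw [Matrix.toLin'_apply, Matrix.mulVec_mulVec]; simp [F, hE]⟩
  let d : (Fin n → R) ≃ₗ[R] (Fin n → N) :=
    { toFun := fun v i => ⟨(E o i).mulVec v, hEmem i v⟩
      map_add' := fun a b => by funext i; apply Subtype.ext; simp [Matrix.mulVec_add]
      map_smul' := fun r a => by funext i; apply Subtype.ext; simp [Matrix.mulVec_smul]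
      invFun := fun w => ∑ i, (E i o).mulVec (w i : Fin n → R)
      left_inv := fun v => by
        simp only [Matrix.mulVec_mulVec, hE, if_true, ← Matrix.sum_mulVec, hE1, Matrix.one_mulVec]
      right_inv := fun w => by
        funext j
        apply Subtype.ext
        simp only [Matrix.mulVec_sum, Matrix.mulVec_mulVec, hE]
        rw [Finset.sum_eq_single j]
        · simpa [F] using hmem _ (w j).2
        · intro b _ hb; simp [Ne.symm hb]
        · simp }
  haveI := hfree N ⟨d.symm⟩
  obtain ⟨e⟩ := Module.Invertible.free_iff_linearEquiv.1 (inferInstance : Module.Free R N)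
  let v : N := e.symm 1
  let P : Matrix (Fin n) (Fin n) R := Matrix.of fun i j => ((E j o).mulVec (v : Fin n → R)) i
  let Q : Matrix (Fin n) (Fin n) R := Matrix.of fun i j => e (d (Pi.single j 1) i)
  have hPc : ∀ x : Fin n → R, P.mulVec x = d.symm (fun i => x i • v) := by
    intro x
    ext k
    simp [d, P, Matrix.mulVec, dotProduct, Finset.mul_sum, Finset.sum_mul, Matrix.sum_apply]
    exact Finset.sum_congr rfl fun i _ => Finset.sum_congr rfl fun j _ => by ring
  have hPQ : P * Q = 1 := by
    apply Matrix.ext_of_mulVec_single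
    intro j
    rw [← Matrix.mulVec_mulVec, hPc, Matrix.one_mulVec, d.symm_apply_eq]
    funext i
    have : Q.mulVec (Pi.single j 1) i = e (d (Pi.single j 1) i) := by simp [Q]
    rw [this, ← map_smul e.symm, smul_eq_mul, mul_one, e.symm_apply_apply]
  let PU : GL (Fin n) R := ⟨P, Q, hPQ, mul_eq_one_comm.1 hPQ⟩
  refine ⟨PU, fun A => ?_⟩
  have hcomm : ∀ a b, E a b * P = P * Matrix.single a b 1 := by
    intro a b
    apply Matrix.ext_of_mulVec_single
    intro j
    rw [← Matrix.mulVec_mulVec, ← Matrix.mulVec_mulVec, hPc, hPc]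
    have h1 : ∀ x : Fin n → N, d.symm x = ∑ i, (E i o).mulVec (x i : Fin n → R) := fun x => rfl
    rw [h1, h1, Matrix.mulVec_sum]
    simp only [Matrix.mulVec_mulVec, hE, SetLike.val_smul, Matrix.mulVec_smul]
    rw [Finset.sum_eq_single j, Finset.sum_eq_single a]
    · by_cases hb : b = j
      · subst hb; simp [Matrix.mulVec, dotProduct, Matrix.single_apply]
      · simp [Matrix.mulVec, dotProduct, Matrix.single_apply, hb]
    · intro i _ hi; simp [Matrix.mulVec, dotProduct, Matrix.single_apply, Ne.symm hi]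
    · simp
    · intro i _ hi; simp [hi]
    · simp
  have hall : ∀ A, φ A * P = P * A := by
    intro A
    conv_lhs => rw [Matrix.matrix_eq_sum_single A]
    conv_rhs => rw [Matrix.matrix_eq_sum_single A]
    simp only [map_sum, Finset.sum_mul, Finset.mul_sum]
    refine Finset.sum_congr rfl fun i _ => Finset.sum_congr rfl fun j _ => ?_
    rw [show Matrix.single i j (A i j) = A i j • Matrix.single i j (1 : R) by simp, map_smul,
      smul_mul_assoc, mul_smul_comm]
    exact congrArg _ (hcomm i j)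
  change φ A = P * A * Q
  rw [← hall, mul_assoc, hPQ, mul_one]

end Inner

end Groth.Agent.DivAlg26
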